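import Groth.Agent.LAcyc.AffineSpace
import Groth.Agent.EtPBC.ClosedFibre
import Mathlib

/-! Cohomology of schemes with a contraction by the affine line. -/

set_option autoImplicit false
set_option backward.isDefEq.respectTransparency false
set_option backward.isDefEq.respectTransparency.types false
set_option linter.style.haveILetI false
set_option linter.overlappingInstances false
set_option linter.auxLemma false
set_option maxHeartbeats 1000000

universe u

open CategoryTheory CategoryTheory.Limits CategoryTheory.Abelian AlgebraicGeometry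

noncomputable section

namespace Groth.Agent.ConeCoh

attribute [local instance 100000] EtCoh.H._proof_1 Groth.Agent.EtMV.hext
attribute [local instance 200000] Groth.Agent.EtMV.hextAb

variable {X Y L : Scheme.{u}}

/-- classes killed by a pullback are killed by a composite pullback -/
theorem Hpull_eq_zero_of_comp (s : Y ⟶ L) (g : L ⟶ X) (k : Y ⟶ X) (w : s ≫ g = k)
    [PreservesFiniteLimits (EtCoh.pull s)] [PreservesFiniteLimits (EtCoh.pull g)]
    [PreservesFiniteLimits (EtCoh.pull k)] (F : EtCoh.Ab X) (q : ℕ) (x : EtCoh.H X F q) :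
    EtCore.Hpull k F q x = 0 ↔ EtCore.Hpull s _ q (EtCore.Hpull g F q x) = 0 := by
  haveI := EtAcycX.isIso_ψh s g k w F
  rw [← EtAcycX.Hpull_HpullVia s g k w F q x, EtAcycX.HpullVia_eq]
  exact ⟨fun h => (EtAcycX.bijective_comp_iso (X := EtCoh.const Y ℤ) (EtLimit.ψh s g k w F) q).1
    (h.trans (Ext.zero_comp _ _ _ _ _).symm), fun h => by rw [h]; exact Ext.zero_comp _ _ _ _ _⟩

/-- a class killed at one end of a contraction is zero -/
theorem eq_zero_of_contraction (π φ : L ⟶ X) (s₀ s₁ : X ⟶ L) (c : X ⟶ X) (h₀ : s₀ ≫ π = 𝟙 X) (h₁ : s₁ ≫ φ = 𝟙 X)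
    (hc : s₀ ≫ φ = c) [PreservesFiniteLimits (EtCoh.pull π)] [PreservesFiniteLimits (EtCoh.pull φ)]
    [PreservesFiniteLimits (EtCoh.pull c)] (F : EtCoh.Ab X) (θ : (EtCoh.pull π).obj F ≅ (EtCoh.pull φ).obj F) (q : ℕ)
    (hb : Function.Surjective (EtCore.Hpull π F q)) (x : EtCoh.H X F q) (hx : EtCore.Hpull c F q x = 0) : x = 0 := by
  haveI := EtPullExact.pull_preservesFiniteLimits s₀
  haveI := EtPullExact.pull_preservesFiniteLimits s₁
  haveI := EtPullExact.pull_preservesFiniteLimits (𝟙 X)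
  obtain ⟨z, hz⟩ := hb (Ext.comp (EtCore.Hpull φ F q x) (Ext.mk₀ θ.inv) (add_zero q))
  have hy : EtCore.Hpull φ F q x = Ext.comp (EtCore.Hpull π F q z) (Ext.mk₀ θ.hom) (add_zero q) := by
    rw [hz]; simp
  have h2 := (Hpull_eq_zero_of_comp s₀ φ c hc F q x).1 hx
  rw [hy, EtAcycX.Hpull_comp_mk₀] at h2
  have h3 : EtCore.Hpull s₀ _ q (EtCore.Hpull π F q z) = 0 :=
    (EtAcycX.bijective_comp_iso (X := EtCoh.const X ℤ) ((EtCoh.pull s₀).map θ.hom) q).1
      (h2.trans (Ext.zero_comp _ _ _ _ _).symm)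
  have h4 := (Hpull_eq_zero_of_comp s₀ π (𝟙 X) h₀ F q z).2 h3
  have hinj := (EtPBC.bijective_Hpull_of_isIso (𝟙 X) F q).1
  rw [hinj (h4.trans (map_zero _).symm), map_zero, Ext.zero_comp] at hy
  exact hinj (((Hpull_eq_zero_of_comp s₁ φ (𝟙 X) h₁ F q x).2 (hy ▸ map_zero _)).trans (map_zero _).symm)

/-- constant classes extend along a retraction -/
theorem surjective_Hpull_const_of_retract {P : Scheme.{u}} (e : P ⟶ X) (p : X ⟶ P) (h : e ≫ p = 𝟙 P)
    [PreservesFiniteLimits (EtCoh.pull e)] (M : Type) [AddCommGroup M] (q : ℕ) :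
    Function.Surjective (EtCore.Hpull e (EtCoh.const X M) q) := by
  haveI := EtPullExact.pull_preservesFiniteLimits p
  haveI := EtPullExact.pull_preservesFiniteLimits (𝟙 P)
  haveI := EtAcycX.isIso_ψh e p (𝟙 P) h (EtCoh.const P M)
  let A := EtCoh.const P M
  let θ := EtCore.pullConst p M
  let i : (EtCoh.pull (𝟙 P)).obj A ≅ (EtCoh.pull e).obj (EtCoh.const X M) :=
    (asIso (EtLimit.ψh e p (𝟙 P) h A)).symm ≪≫ (EtCoh.pull e).mapIso θ
  intro y
  obtain ⟨y', rfl⟩ := (EtAcycX.bijective_comp_iso (X := EtCoh.const P ℤ) i.hom q).2 y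
  obtain ⟨z, rfl⟩ := (EtPBC.bijective_Hpull_of_isIso (𝟙 P) A q).2 y'
  refine ⟨Ext.comp (EtCore.Hpull p A q z) (Ext.mk₀ θ.hom) (add_zero q), ?_⟩
  rw [EtAcycX.Hpull_comp_mk₀, ← EtAcycX.Hpull_HpullVia e p (𝟙 P) h A q z, EtAcycX.HpullVia_eq]
  simp only [Ext.comp_assoc_of_second_deg_zero, Ext.mk₀_comp_mk₀]
  congr 2
  simp [i]

/-- **cohomology of an affine scheme contracting onto a point** -/
theorem bijective_Hpull_contractible {B k : Type u} [CommRing B] [CommRing k] [Nontrivial k] (ε : B →+* k)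
    (ι : k →+* B) (hι : ε.comp ι = RingHom.id k) (h : B →+* Polynomial B)
    (h₁ : (Polynomial.evalRingHom 1).comp h = RingHom.id B) (h₀ : (Polynomial.evalRingHom 0).comp h = ι.comp ε)
    (N : ℕ) (hN : IsUnit (N : B)) [PreservesFiniteLimits (EtCoh.pull (Spec.map (CommRingCat.ofHom ε)))] (q : ℕ) :
    Function.Bijective (EtCore.Hpull (Spec.map (CommRingCat.ofHom ε)) (EtCoh.const _ (ZMod N)) q) := by
  haveI : Nontrivial B := ε.domain_nontrivial
  let S := fun {R T : Type u} [CommRing R] [CommRing T] (g : R →+* T) => Spec.map (CommRingCat.ofHom g)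
  let F := EtCoh.const (Spec (CommRingCat.of B)) (ZMod N)
  have hN0 : 0 < N := Nat.pos_of_ne_zero fun h => by
    subst h; simp at hN
  have comp : ∀ {R T U : Type u} [CommRing R] [CommRing T] [CommRing U] (f : R →+* T) (g : T →+* U) (k : R →+* U),
      g.comp f = k → S g ≫ S f = S k := fun f g k e => by
    simp only [S, ← Spec.map_comp, ← CommRingCat.ofHom_comp, e]
  have hid : ∀ (R : Type u) [CommRing R], S (RingHom.id R) = 𝟙 _ := fun R _ => Spec.map_id _
  have key : ∀ (x : EtCoh.H _ F q), EtCore.Hpull (S ε) F q x = 0 → x = 0 := fun x hx => by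
    haveI := EtPullExact.pull_preservesFiniteLimits (S ι)
    haveI := EtPullExact.pull_preservesFiniteLimits (S h)
    haveI := EtPullExact.pull_preservesFiniteLimits (S ι ≫ S ε)
    haveI := EtPullExact.pull_preservesFiniteLimits (LAcyc.lineStr B)
    let L : Set ℕ := {l | l.Prime ∧ IsUnit (l : B)}
    have hF : EtAcyc.IsLTorsion L F := fun U s u => ⟨U, 𝟙 U, N, ⟨u, rfl⟩, ⟨hN0, fun p hp ⟨r, hr⟩ => ⟨hp,
      isUnit_of_dvd_unit ⟨(r : B), by rw [hr, Nat.cast_mul]⟩ hN⟩⟩, EtPBC.killed_const _ N U _⟩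
    have hc := LAcyc.compN_line B (L := L) (fun l hl => hl) q F hF
    refine eq_zero_of_contraction (LAcyc.lineStr B) (S h) (S (Polynomial.evalRingHom 0)) (S (Polynomial.evalRingHom 1))
      (S ι ≫ S ε) ((comp _ _ (RingHom.id B) (RingHom.ext fun b => Polynomial.eval_C)).trans (hid B))
      ((comp _ _ _ h₁).trans (hid B)) ((comp _ _ _ h₀).trans (comp _ _ _ rfl).symm) F
      (EtCore.pullConst _ (ZMod N) ≪≫ (EtCore.pullConst _ (ZMod N)).symm) q (hc.1 q le_rfl).2 x ?_
    exact (Hpull_eq_zero_of_comp (S ι) (S ε) _ rfl F q x).2 (by rw [hx, map_zero])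
  exact ⟨fun a b hab => sub_eq_zero.1 (key (a - b) (by rw [map_sub]; exact sub_eq_zero.2 hab)),
    surjective_Hpull_const_of_retract (S ε) (S ι) ((comp _ _ _ hι).trans (hid k)) _ q⟩

/-- **cohomology of a contractible affine scheme** -/
theorem contractible {B k : Type u} [CommRing B] [Field k] [IsAlgClosed k] (ε : B →+* k) (ι : k →+* B)
    (hι : ε.comp ι = RingHom.id k) (h : B →+* Polynomial B) (h₁ : (Polynomial.evalRingHom 1).comp h = RingHom.id B)
    (h₀ : (Polynomial.evalRingHom 0).comp h = ι.comp ε) (N : ℕ) (hN : IsUnit (N : B))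
    [PreservesFiniteLimits (EtCoh.pull (Spec.map (CommRingCat.ofHom ε)))] :
    Function.Bijective (EtCore.Hpull (Spec.map (CommRingCat.ofHom ε)) (EtCoh.const _ (ZMod N)) 0) ∧
      ∀ i : ℕ, 1 ≤ i → Subsingleton (EtCoh.H (Spec (CommRingCat.of B)) (EtCoh.const _ (ZMod N)) i) := by
  have hb := bijective_Hpull_contractible ε ι hι h h₁ h₀ N hN
  refine ⟨hb 0, fun i hi => ?_⟩
  obtain ⟨j, rfl⟩ : ∃ j, i = j + 1 := ⟨i - 1, by omega⟩
  haveI : IsSepClosed (IsLocalRing.ResidueField k) :=
    Hensel.isSepClosed_of_ringEquiv (RingEquiv.ofBijective (IsLocalRing.residue k)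
      ⟨(IsLocalRing.residue k).injective, IsLocalRing.residue_surjective⟩)
  haveI := EtAcycX.subsingleton_H_henselian k ((EtCoh.pull (Spec.map (CommRingCat.ofHom ε))).obj
    (EtCoh.const _ (ZMod N))) j
  exact (hb (j + 1)).1.subsingleton

/-- the contraction of a cone -/
theorem exists_contraction (k : Type u) [CommRing k] {σ : Type*} [Fintype σ] (I : Ideal (MvPolynomial σ k))
    (T : Set (MvPolynomial σ k)) (hI : I = Ideal.span T) (hT : ∀ p ∈ T, ∃ d : ℕ, MvPolynomial.IsHomogeneous p d)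
    (ε : (MvPolynomial σ k ⧸ I) →+* k) (hεC : ∀ c, ε (Ideal.Quotient.mk I (MvPolynomial.C c)) = c)
    (hεX : ∀ i, ε (Ideal.Quotient.mk I (MvPolynomial.X i)) = 0) :
    ∃ h : (MvPolynomial σ k ⧸ I) →+* Polynomial (MvPolynomial σ k ⧸ I),
      (Polynomial.evalRingHom 1).comp h = RingHom.id _ ∧
      (Polynomial.evalRingHom 0).comp h = (algebraMap k _).comp ε := by
  classical
  let B := MvPolynomial σ k ⧸ I
  let a : σ → B := fun i => Ideal.Quotient.mk I (MvPolynomial.X i)
  let g : MvPolynomial σ k →ₐ[k] Polynomial B := MvPolynomial.aeval fun i => Polynomial.C (a i) * Polynomial.X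
  have hg : ∀ (p : MvPolynomial σ k) (d : ℕ), MvPolynomial.IsHomogeneous p d →
      g p = Polynomial.C (MvPolynomial.aeval a p) * Polynomial.X ^ d := by
    intro p d hp
    simp only [g, MvPolynomial.aeval_def, MvPolynomial.eval₂_eq', map_sum, Finset.sum_mul]
    refine Finset.sum_congr rfl fun e he => ?_
    have hd : ∑ i, e i = d := by
      have h := hp (MvPolynomial.mem_support_iff.1 he)
      rw [← h, Finsupp.weight_apply, Finsupp.sum_fintype _ _ (fun i => by simp)]
      simp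
    rw [← hd, ← Finset.prod_pow_eq_pow_sum Finset.univ (fun i => e i) (Polynomial.X : Polynomial B), map_mul,
      map_prod, mul_assoc, ← Finset.prod_mul_distrib, Polynomial.algebraMap_apply]
    simp only [map_pow]
    exact congrArg _ (Finset.prod_congr rfl fun i _ =>
      (Commute.all (Polynomial.C (a i)) Polynomial.X).mul_pow (e i))
  have hmk : ∀ p, MvPolynomial.aeval a p = Ideal.Quotient.mk I p := fun p => by
    rw [show MvPolynomial.aeval a = Ideal.Quotient.mkₐ k I from
      MvPolynomial.algHom_ext fun i => (MvPolynomial.aeval_X a i).trans rfl]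
    rfl
  have hker : ∀ p ∈ I, g p = 0 := by
    intro p hp
    refine (Ideal.span_le.2 (fun q hq => ?_) : Ideal.span T ≤ RingHom.ker g) (hI ▸ hp)
    obtain ⟨d, hd⟩ := hT q hq
    rw [SetLike.mem_coe, RingHom.mem_ker, hg q d hd, hmk,
      Ideal.Quotient.eq_zero_iff_mem.2 (hI ▸ Ideal.subset_span hq), map_zero, zero_mul]
  refine ⟨Ideal.Quotient.lift I g.toRingHom hker, ?_, ?_⟩
  · refine Ideal.Quotient.ringHom_ext (MvPolynomial.ringHom_ext (fun c => ?_) fun i => ?_)
    · show (g (MvPolynomial.C c)).eval 1 = Ideal.Quotient.mk I (MvPolynomial.C c)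
      simp only [g, MvPolynomial.aeval_C, Polynomial.algebraMap_apply, Polynomial.eval_C]
      rfl
    · show (g (MvPolynomial.X i)).eval 1 = a i
      simp [g]
  · refine Ideal.Quotient.ringHom_ext (MvPolynomial.ringHom_ext (fun c => ?_) fun i => ?_)
    · show (g (MvPolynomial.C c)).eval 0 = algebraMap k B (ε (Ideal.Quotient.mk I (MvPolynomial.C c)))
      rw [hεC]
      simp only [g, MvPolynomial.aeval_C, Polynomial.algebraMap_apply, Polynomial.eval_C]
    · show (g (MvPolynomial.X i)).eval 0 = algebraMap k B (ε (Ideal.Quotient.mk I (MvPolynomial.X i)))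
      simp [g, hεX]

end Groth.Agent.ConeCoh
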